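import Cfsg.Agent.H343.Hall.EComm
import Cfsg.Agent.H757.Hall.E6One

/-!
# S2223, E-2 with E-1 (helper757) plugged in (helper343)
-/

set_option autoImplicit false

namespace Cfsg.Agent.H343.Hall.EComm

open Cfsg.Lie Cfsg.Agent.ChevalleyStructure.E6Min.Tables Cfsg.Agent.ChevalleyStructure.E6Min.Basic
  Cfsg.Agent.ChevalleyStructure.E6Min.Torus Cfsg.Agent.H125.Hall.E6
open scoped Matrix

variable {K : Type*} [Field K]

theorem ec2 : EC2 K := fun hz h1 h2 => H757.Hall.eq_one_of_fix hz h1 h2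

theorem comm_of_frame (h2 : (2 : K) ≠ 0) {g c : GL I27 K} (hg : g ∈ Zgrp K) (hc : c ∈ Zgrp K)
    (hgA : ∀ k : Fin 4, ∃ A B : Matrix (Fin 2) (Fin 2) K, A.det = 1 ∧ B.det = 1 ∧ A * B ≠ B * A ∧
      (g : Matrix I27 I27 K) * Ph k A = Ph k A * (g : Matrix I27 I27 K) ∧ (g : Matrix I27 I27 K) * Ph k B = Ph k B * (g : Matrix I27 I27 K))
    (hgz : ∀ k : Fin 4, (g : Matrix I27 I27 K) * Ph k (-1) = Ph k (-1) * (g : Matrix I27 I27 K))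
    (hcz : ∀ k : Fin 4, (c : Matrix I27 I27 K) * Ph k (-1) = Ph k (-1) * (c : Matrix I27 I27 K)) : g * c = c * g :=
  comm_of_frame_of ec2 h2 hg hc hgA hgz hcz

theorem comm_of_frame' (h2 : (2 : K) ≠ 0) {g c v w : GL I27 K} (hg : g ∈ Zgrp K) (hc : c ∈ Zgrp K)
    (hgA : ∀ k : Fin 4, ∃ A B : Matrix (Fin 2) (Fin 2) K, A.det = 1 ∧ B.det = 1 ∧ A * B ≠ B * A ∧
      (g : Matrix I27 I27 K) * Ph k A = Ph k A * (g : Matrix I27 I27 K) ∧ (g : Matrix I27 I27 K) * Ph k B = Ph k B * (g : Matrix I27 I27 K))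
    (hgz : ∀ k : Fin 4, (g : Matrix I27 I27 K) * Ph k (-1) = Ph k (-1) * (g : Matrix I27 I27 K))
    (hv : g * v = v * g) (hw : g * w = w * g)
    (hv1 : ∀ k : Fin 4, (v : Matrix I27 I27 K) * Ph k (-1) = Ph ((![1, 0, 3, 2] : Fin 4 → Fin 4) k) (-1) * (v : Matrix I27 I27 K))
    (hw1 : ∀ k : Fin 4, (w : Matrix I27 I27 K) * Ph k (-1) = Ph ((![2, 3, 0, 1] : Fin 4 → Fin 4) k) (-1) * (w : Matrix I27 I27 K))
    (hc1 : (c : Matrix I27 I27 K) * (Ph 0 (-1) * Ph 1 (-1)) = Ph 0 (-1) * Ph 1 (-1) * (c : Matrix I27 I27 K))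
    (hc2 : (c : Matrix I27 I27 K) * (Ph 0 (-1) * Ph 2 (-1)) = Ph 0 (-1) * Ph 2 (-1) * (c : Matrix I27 I27 K)) : g * c = c * g :=
  comm_of_frame'_of ec2 h2 hg hc hgA hgz hv hw hv1 hw1 hc1 hc2

end Cfsg.Agent.H343.Hall.EComm
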